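import Cfsg.Agent.H409.CC.RealU
import Cfsg.Agent.H80.PB.RealT
import Cfsg.Agent.H876.PB.CycPsu

/-!
# S4884, row `psu`, the bad case: cyclic Sylow `q`-subgroup and a real element of order `q` (helper80, helper876, helper409)
-/

set_option autoImplicit false

namespace Cfsg.Agent.H409.CC

open Cfsg Cfsg.Agent.H706.PB Cfsg.Agent.Characters.Core

/-- **bad_psu** -/
theorem bad_psu {F : Type} [Field F] [Fintype F] {n s q c : ℕ} [Fact q.Prime] (hF : Fintype.card F = s ^ 2) (hn : 3 ≤ n)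
    (hqs : ¬ q ∣ s) (hq2 : q ≠ 2) (hc : 1 ≤ c) (he : orderOf (-(s : ZMod q)) = 2 ^ c) (hen : 2 ^ c ≤ n)
    (hne : n < 2 * 2 ^ c) : RowReal q (PSU n F s) := by
  have hq : q.Prime := Fact.out
  have hs : 2 ≤ s := LieClassical.HermBasic.two_le hF
  obtain ⟨P⟩ : Nonempty (Sylow q (PSU n F s)) := inferInstance
  obtain ⟨b, rfl⟩ : ∃ b, c = b + 1 := ⟨c - 1, by omega⟩
  -- `(-s) ^ (2 ^ b) = -1`
  have h1 : (-(s : ZMod q)) ^ 2 ^ b = -1 := by
    have h2 : ((-(s : ZMod q)) ^ 2 ^ b) * ((-(s : ZMod q)) ^ 2 ^ b) = 1 := by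
      rw [← pow_add, ← two_mul, ← pow_succ', ← he, pow_orderOf_eq_one]
    rcases mul_self_eq_one_iff.1 h2 with h3 | h3
    · exfalso
      have h4 := orderOf_dvd_of_pow_eq_one h3
      rw [he] at h4
      have h5 := Nat.le_of_dvd (pow_pos (by norm_num) b) h4
      have h6 : 2 ^ (b + 1) = 2 * 2 ^ b := pow_succ' 2 b
      have h7 : 0 < 2 ^ b := pow_pos (by norm_num) b
      omega
    · exact h3
  obtain ⟨y, hy, hyr⟩ := real_psu (n := n) hF hq hq2 (by
    rcases Nat.eq_zero_or_pos b with hb | hb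
    · right
      subst hb
      refine ⟨hn, ?_⟩
      rw [pow_zero, pow_one] at h1
      have h2 : (s : ZMod q) = 1 := neg_inj.1 h1
      rw [← ZMod.natCast_eq_zero_iff, Nat.cast_sub (by omega), h2, Nat.cast_one, sub_self]
    · left
      have hev : Even (2 ^ b) := (Nat.even_pow.2 ⟨even_two, by omega⟩)
      refine ⟨2 ^ b, pow_pos (by norm_num) b, hev, ?_, ?_⟩
      · rw [← pow_succ']
        exact hen
      · rw [hev.neg_pow] at h1
        rw [← ZMod.natCast_eq_zero_iff, Nat.cast_add, Nat.cast_pow, h1, Nat.cast_one, neg_add_cancel])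
  exact H80.PB.RowReal.of_cyclic P (H876.PB.isCyclic_sylow_psu hF hqs hq2 he hne P) (by rw [hy]) hyr

end Cfsg.Agent.H409.CC
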