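import Cfsg.Agent.H398.RC.KStruct
import Cfsg.Agent.ClassicalGeometry.PSUAutBasic
import Mathlib.FieldTheory.Finite.Extension

/-!
# S4884, row `psu`, the bad case: real elements of order `q` in `SU_n(r)` (helper409)

* `real_su` : `q ∣ r ^ d + 1`, `d > 0` even, `2 d ≤ n`, or `q ∣ r - 1`, `3 ≤ n` : an element of order `q` of `SU_n(r)` which is
  conjugate to its inverse;
* `real_psu` : the same for `PSU_n(r)`.
-/

set_option autoImplicit false
set_option linter.unusedSectionVars false

namespace Cfsg.Agent.H409.CC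

open Matrix Module Cfsg Cfsg.Agent.LieClassical.HermBasic Cfsg.Agent.LieClassical.HermSiegel
  Cfsg.Agent.ClassicalGeometry.PSUAutBasic
open Cfsg.Agent.H398.RC (HermF)

section basic

variable {F : Type} [Field F] [Fintype F] {n r : ℕ}

/-- an isometry of determinant `1` -/
theorem exists_su {T : Module.End F (Fin n → F)} (hT : ∀ v w, hermForm n F r (T v) (T w) = hermForm n F r v w)
    (hd : LinearMap.det T = 1) : ∃ s : SU n F r, ∀ v, act s v = T v := by
  have h1 : ∀ v, LinearMap.toMatrix' T *ᵥ v = T v := fun v => LinearMap.toMatrix'_mulVec T v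
  refine ⟨⟨⟨LinearMap.toMatrix' T, by rw [LinearMap.det_toMatrix', hd]⟩, ?_⟩, h1⟩
  intro u v
  change hermForm n F r (LinearMap.toMatrix' T *ᵥ u) (LinearMap.toMatrix' T *ᵥ v) = _
  rw [h1, h1, hT]

/-- real elements from an abstract model -/
theorem real_of_model (hF : Fintype.card F = r ^ 2) {q : ℕ} (hq : q.Prime) (hq2 : q ≠ 2) {W : Type} [AddCommGroup W]
    [Module F W] [FiniteDimensional F W] (hW : finrank F W = n) {b : W → W → F} (hb : HermF ((conj hF : F ≃+* F) : F →+* F) b)
    (X G : Module.End F W) (hX : ∀ u v, b (X u) (X v) = b u v) (hG : ∀ u v, b (G u) (G v) = b u v)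
    (hXq : X ^ q = 1) (hX1 : X ≠ 1) (hXG : X * G * X = G) (hdG : LinearMap.det G = 1) :
    ∃ x g : SU n F r, orderOf x = q ∧ g * x * g⁻¹ = x⁻¹ := by
  obtain ⟨c₀, hc₀⟩ := exists_not_fixed hF
  obtain ⟨j, hj⟩ := HermF.exists_iso (σ := ((conj hF : F ≃+* F) : F →+* F))
    (fun h1 => hc₀ (RingHom.congr_fun h1 c₀)) (fun a => pow_q_pow_q hF a) (q := r) (fun x => rfl) hb hW
  have hdX : LinearMap.det X = 1 := by
    have h1 : LinearMap.det X ^ 2 = 1 := by
      have h2 := congrArg LinearMap.det hXG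
      rw [map_mul, map_mul, hdG, mul_one] at h2
      rw [pow_two, h2]
    have h2 : LinearMap.det X ^ q = 1 := by rw [← map_pow, hXq, map_one]
    obtain ⟨k, hk⟩ := hq.odd_of_ne_two hq2
    rw [hk, pow_succ, pow_mul, h1, one_pow, one_mul] at h2
    exact h2
  let cj : Module.End F W → Module.End F (Fin n → F) := fun T => (j.symm : W →ₗ[F] (Fin n → F)) ∘ₗ T ∘ₗ (j : (Fin n → F) →ₗ[F] W)
  have hcj : ∀ T v, cj T v = j.symm (T (j v)) := fun _ _ => rfl
  have hdet : ∀ T, LinearMap.det (cj T) = LinearMap.det T := by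
    intro T
    have := LinearMap.det_conj T j.symm
    rw [LinearEquiv.symm_symm] at this
    exact this
  have hiso : ∀ T, (∀ u v, b (T u) (T v) = b u v) → ∀ v w, hermForm n F r (cj T v) (cj T w) = hermForm n F r v w := by
    intro T hT v w
    rw [← hj, hcj, hcj, LinearEquiv.apply_symm_apply, LinearEquiv.apply_symm_apply, hT, hj]
  obtain ⟨x, hx⟩ := exists_su (hiso X hX) (by rw [hdet, hdX])
  obtain ⟨g, hg⟩ := exists_su (hiso G hG) (by rw [hdet, hdG])
  have hxk : ∀ k v, act (x ^ k) v = j.symm ((X ^ k) (j v)) := by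
    intro k
    induction k with
    | zero => intro v; rw [pow_zero, pow_zero, act_one, Module.End.one_apply, LinearEquiv.symm_apply_apply]
    | succ k ih =>
      intro v
      rw [pow_succ, act_mul, ih, hx, hcj, LinearEquiv.apply_symm_apply, pow_succ, Module.End.mul_apply]
  refine ⟨x, g, ?_, ?_⟩
  · have : Fact q.Prime := ⟨hq⟩
    refine orderOf_eq_prime ?_ ?_
    · apply ext_act
      intro v
      rw [hxk, hXq, act_one, Module.End.one_apply, LinearEquiv.symm_apply_apply]
    · intro h1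
      apply hX1
      apply LinearMap.ext
      intro w
      have h2 := hx (j.symm w)
      rw [h1, act_one, hcj, LinearEquiv.apply_symm_apply] at h2
      exact (j.symm.injective h2).symm
  · rw [mul_inv_eq_iff_eq_mul, ← mul_right_inj x]
    apply ext_act
    intro v
    have h1 : ∀ w, X (G (X w)) = G w := fun w => LinearMap.congr_fun hXG w
    rw [act_mul, act_mul, mul_inv_cancel_left, hx, hg, hx, hg, hcj, hcj, hcj, hcj, LinearEquiv.apply_symm_apply,
      LinearEquiv.apply_symm_apply, h1]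

end basic

section model

variable {F : Type} [Field F] [Fintype F] {r : ℕ} {K : Type} [Field K] [Finite K] [Algebra F K] {m : ℕ}

/-- the form on `(K × K) × F ^ m` -/
noncomputable def bb (r : ℕ) (F : Type) [Field F] (K : Type) [Field K] [Algebra F K] (m : ℕ)
    (u v : (K × K) × (Fin m → F)) : F :=
  Algebra.trace F K (u.1.1 * v.1.2 ^ r) + (Algebra.trace F K (v.1.1 * u.1.2 ^ r)) ^ r + hermForm m F r u.2 v.2

theorem trace_nd {x : K} (h : ∀ a : K, Algebra.trace F K (x * a) = 0) : x = 0 := by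
  have : FiniteDimensional F K := Module.Finite.of_finite
  have hnd := traceForm_nondegenerate F K
  apply hnd.1
  intro l
  rw [Algebra.traceForm_apply, h]

theorem exists_root (hF : Fintype.card F = r ^ 2) (y : K) : ∃ x : K, x ^ r = y := by
  obtain ⟨p, k, hp, hchar, hk, -⟩ := exists_prime_pow hF
  have : Fact p.Prime := ⟨hp⟩
  have : CharP K p := charP_of_injective_algebraMap (algebraMap F K).injective p
  have h1 : Function.Surjective (iterateFrobenius K p k) := by
    apply Finite.surjective_of_injective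
    exact iterateFrobenius_inj K p k
  obtain ⟨x, hx⟩ := h1 y
  exact ⟨x, by rw [hk]; exact hx⟩

theorem add_pow_r (hF : Fintype.card F = r ^ 2) (x y : K) : (x + y) ^ r = x ^ r + y ^ r := by
  obtain ⟨p, k, hp, hchar, hk, -⟩ := exists_prime_pow hF
  have : Fact p.Prime := ⟨hp⟩
  have : CharP K p := charP_of_injective_algebraMap (algebraMap F K).injective p
  rw [hk]
  exact add_pow_char_pow x y p k

theorem hermF_bb (hF : Fintype.card F = r ^ 2) : HermF ((conj hF : F ≃+* F) : F →+* F) (bb r F K m) := by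
  have hr := q_pos hF
  refine ⟨fun u u' v => ?_, fun c u v => ?_, fun u v => ?_, fun u hu => ?_⟩
  · change Algebra.trace F K ((u.1.1 + u'.1.1) * v.1.2 ^ r) + (Algebra.trace F K (v.1.1 * (u.1.2 + u'.1.2) ^ r)) ^ r +
      hermForm m F r (u.2 + u'.2) v.2 = _
    rw [add_pow_r hF, add_mul, mul_add, map_add, map_add, add_pow_q hF, herm_add_left]
    unfold bb
    ring
  · change Algebra.trace F K ((c • u.1.1) * v.1.2 ^ r) + (Algebra.trace F K (v.1.1 * (c • u.1.2) ^ r)) ^ r +
      hermForm m F r (c • u.2) v.2 = _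
    rw [smul_mul_assoc, smul_pow, mul_smul_comm, map_smul, map_smul, herm_smul_left, smul_eq_mul, smul_eq_mul, mul_pow,
      pow_q_pow_q hF]
    unfold bb
    ring
  · change _ = (bb r F K m u v) ^ r
    unfold bb
    rw [add_pow_q hF, add_pow_q hF, pow_q_pow_q hF, ← herm_swap hF]
    ring
  · have h0 : ∀ c : F, c ^ r = 0 → c = 0 := fun c hc => pow_eq_zero_iff hr.ne' |>.1 hc
    have h1 : u.1.1 = 0 := by
      apply trace_nd (F := F)
      intro a
      obtain ⟨x, rfl⟩ := exists_root hF a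
      have h2 := hu ((0, x), 0)
      unfold bb at h2
      rw [zero_mul, map_zero, zero_pow hr.ne', add_zero, herm_zero_right hF, add_zero] at h2
      exact h2
    have h2 : u.1.2 = 0 := by
      have h3 : u.1.2 ^ r = 0 := by
        apply trace_nd (F := F)
        intro a
        have h4 := hu ((a, 0), 0)
        unfold bb at h4
        rw [zero_pow hr.ne', mul_zero, map_zero, zero_add, herm_zero_right hF, add_zero] at h4
        rw [mul_comm]
        exact h0 _ h4
      exact pow_eq_zero_iff hr.ne' |>.1 h3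
    have h3 : u.2 = 0 := by
      apply herm_nondeg hF
      intro v
      have h4 := hu (0, v)
      unfold bb at h4
      change Algebra.trace F K (u.1.1 * (0 : K) ^ r) + (Algebra.trace F K ((0 : K) * u.1.2 ^ r)) ^ r +
        hermForm m F r u.2 v = 0 at h4
      rw [zero_pow hr.ne', mul_zero, map_zero, zero_add, zero_mul, map_zero, zero_pow hr.ne', zero_add] at h4
      exact h4
    exact Prod.ext (Prod.ext h1 h2) h3

/-- `((a, b), c) ↦ ((ζ a, ζ' b), c)` -/
noncomputable def XX (z z' : K) : Module.End F ((K × K) × (Fin m → F)) :=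
  LinearMap.prodMap (LinearMap.prodMap (LinearMap.mulLeft F z) (LinearMap.mulLeft F z')) LinearMap.id

theorem XX_apply (z z' : K) (u : (K × K) × (Fin m → F)) : XX (F := F) z z' u = ((z * u.1.1, z' * u.1.2), u.2) := rfl

theorem bb_XX {z z' : K} (h : z * z' ^ r = 1) (u v : (K × K) × (Fin m → F)) :
    bb r F K m (XX z z' u) (XX z z' v) = bb r F K m u v := by
  unfold bb
  rw [XX_apply, XX_apply]
  have h1 : ∀ a b : K, z * a * (z' * b) ^ r = a * b ^ r := by
    intro a b
    rw [mul_pow]
    linear_combination (a * b ^ r) * h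
  change Algebra.trace F K (z * u.1.1 * (z' * v.1.2) ^ r) + (Algebra.trace F K (z * v.1.1 * (z' * u.1.2) ^ r)) ^ r +
    hermForm m F r u.2 v.2 = _
  rw [h1, h1]

theorem XX_pow (z z' : K) (k : ℕ) : XX (F := F) (m := m) z z' ^ k = XX (z ^ k) (z' ^ k) := by
  induction k with
  | zero =>
    rw [pow_zero, pow_zero, pow_zero]
    apply LinearMap.ext
    intro u
    rw [XX_apply, one_mul, one_mul]
    rfl
  | succ k ih =>
    rw [pow_succ, ih]
    apply LinearMap.ext
    intro u
    rw [Module.End.mul_apply, XX_apply, XX_apply, XX_apply, pow_succ, pow_succ, mul_assoc, mul_assoc]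

/-- the first case -/
theorem real_even (hF : Fintype.card F = r ^ 2) {q d n : ℕ} (hq : q.Prime) (hq2 : q ≠ 2) (hd0 : 0 < d) (hd : Even d)
    (hdn : 2 * d ≤ n) (hqr : q ∣ r ^ d + 1) : ∃ x g : SU n F r, orderOf x = q ∧ g * x * g⁻¹ = x⁻¹ := by
  classical
  obtain ⟨p, hp⟩ := CharP.exists F
  have : Fact p.Prime := ⟨CharP.char_is_prime F p⟩
  have : NeZero d := ⟨hd0.ne'⟩
  obtain ⟨K, i1, i2, i3, hcK⟩ : ∃ (K : Type) (_ : Field K) (_ : Finite K) (_ : Algebra F K), finrank F K = d :=
    ⟨FiniteField.Extension F p d, inferInstance, inferInstance, inferInstance, FiniteField.finrank_extension F p d⟩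
  have hfi : Fintype K := Fintype.ofFinite K
  have hfd : FiniteDimensional F K := Module.Finite.of_finite
  have hc : Fintype.card K = r ^ (2 * d) := by
    rw [Module.card_eq_pow_finrank (K := F) (V := K), hF, hcK, pow_mul]
  obtain ⟨e, he⟩ := hd
  have hr := two_le hF
  -- the element of order `q`
  have hord : q ∣ Nat.card Kˣ := by
    rw [Nat.card_eq_fintype_card, Fintype.card_units, hc]
    have h1 : (r ^ d + 1) * (r ^ d - 1) = r ^ (2 * d) - 1 := by
      have h2 : 1 ≤ r ^ d := Nat.one_le_pow _ _ (by omega)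
      have h3 : r ^ (2 * d) = r ^ d * r ^ d := by rw [two_mul, pow_add]
      rw [h3]
      have := Nat.sq_sub_sq (r ^ d) 1
      rw [one_pow] at this
      rw [← this, pow_two]
    rw [← h1]
    exact hqr.mul_right _
  have : Fact q.Prime := ⟨hq⟩
  obtain ⟨ζ, hζ⟩ := exists_prime_orderOf_dvd_card' q hord
  have hz : (ζ : K) ^ q = 1 := by
    have := pow_orderOf_eq_one ζ
    rw [hζ] at this
    rw [← Units.val_pow_eq_pow_val, this, Units.val_one]
  have hz1 : (ζ : K) ≠ 1 := by
    intro h1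
    have h2 : ζ = 1 := Units.ext h1
    rw [h2, orderOf_one] at hζ
    exact hq.one_lt.ne hζ
  obtain ⟨z, hzd⟩ : ∃ z : K, z = ζ := ⟨_, rfl⟩
  rw [← hzd] at hz hz1
  have hz0 : z ≠ 0 := by
    rintro rfl
    rw [zero_pow hq.ne_zero] at hz
    exact zero_ne_one hz
  obtain ⟨z', hz'⟩ := exists_root hF z⁻¹
  have hzz : z * z' ^ r = 1 := by rw [hz', mul_inv_cancel₀ hz0]
  have hr0 : r ≠ 0 := by omega
  have hz'q : z' ^ q = 1 := by
    have h1 : (z' ^ q) ^ r = 1 := by rw [← pow_mul, mul_comm, pow_mul, hz', inv_pow, hz, inv_one]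
    -- injectivity of the `r`-power map
    have h2 : (z' ^ q - 1) ^ r = 0 := by
      have h3 := add_pow_r (K := K) hF (z' ^ q - 1) 1
      rw [sub_add_cancel, h1, one_pow] at h3
      have h4 : (1 : K) = (z' ^ q - 1) ^ r + 1 := h3
      linear_combination -h4
    have h3 := pow_eq_zero_iff hr0 |>.1 h2
    exact sub_eq_zero.1 h3
  -- the automorphism
  let τ : K ≃ₐ[F] K := (FiniteField.frobeniusAlgEquivOfAlgebraic F K) ^ e
  have hτ : ∀ x, τ x = x ^ (r ^ d) := by
    intro x
    change ((FiniteField.frobeniusAlgEquivOfAlgebraic F K) ^ e) x = _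
    rw [AlgEquiv.coe_pow, FiniteField.coe_frobeniusAlgEquivOfAlgebraic_iterate, hF, ← pow_mul, he, two_mul]
  have hττ : ∀ x, τ (τ x) = x := by
    intro x
    rw [hτ, hτ, ← pow_mul, ← pow_add, ← two_mul, ← hc]
    exact FiniteField.pow_card x
  have hτz : ∀ w : K, w ^ q = 1 → w * τ w = 1 := by
    intro w hw
    rw [hτ, ← pow_succ']
    obtain ⟨k, hk⟩ := hqr
    rw [hk, pow_mul, hw, one_pow]
  let G : Module.End F ((K × K) × (Fin (n - 2 * d) → F)) :=
    LinearMap.prodMap (LinearMap.prodMap τ.toLinearMap τ.toLinearMap) LinearMap.id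
  have hG : ∀ u, G u = ((τ u.1.1, τ u.1.2), u.2) := fun _ => rfl
  refine real_of_model hF hq hq2 (W := (K × K) × (Fin (n - 2 * d) → F)) ?_ (hermF_bb hF) (XX z z') G (bb_XX hzz) ?_ ?_ ?_ ?_ ?_
  · rw [Module.finrank_prod, Module.finrank_prod, hcK, finrank_fin_fun]
    omega
  · intro u v
    unfold bb
    rw [hG, hG]
    have h1 : ∀ a b : K, Algebra.trace F K (τ a * τ b ^ r) = Algebra.trace F K (a * b ^ r) := by
      intro a b
      rw [← map_pow, ← map_mul]
      exact Algebra.trace_eq_of_algEquiv τ _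
    change Algebra.trace F K (τ u.1.1 * τ v.1.2 ^ r) + (Algebra.trace F K (τ v.1.1 * τ u.1.2 ^ r)) ^ r +
      hermForm (n - 2 * d) F r u.2 v.2 = _
    rw [h1, h1]
  · rw [XX_pow, hz, hz'q]
    apply LinearMap.ext
    intro u
    rw [XX_apply, one_mul, one_mul]
    rfl
  · intro h1
    have h2 := LinearMap.congr_fun h1 ((1, 0), 0)
    rw [XX_apply, Module.End.one_apply] at h2
    have h3 : z * 1 = 1 := congrArg (fun u => u.1.1) h2
    rw [mul_one] at h3
    exact hz1 h3
  · apply LinearMap.ext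
    intro u
    rw [Module.End.mul_apply, Module.End.mul_apply, XX_apply, hG, XX_apply, hG]
    have h1 : ∀ w a : K, w ^ q = 1 → w * τ (w * a) = τ a := by
      intro w a hw
      rw [map_mul, ← mul_assoc, hτz w hw, one_mul]
    exact Prod.ext (Prod.ext (h1 z _ hz) (h1 z' _ hz'q)) rfl
  · change LinearMap.det (LinearMap.prodMap (LinearMap.prodMap τ.toLinearMap τ.toLinearMap)
      (LinearMap.id : Module.End F (Fin (n - 2 * d) → F))) = 1
    rw [LinearMap.det_prodMap, LinearMap.det_prodMap, LinearMap.det_id, mul_one, ← map_mul]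
    have h1 : (τ.toLinearMap * τ.toLinearMap : Module.End F K) = 1 := by
      apply LinearMap.ext
      intro x
      exact hττ x
    rw [h1, map_one]

/-- the second case -/
theorem real_one (hF : Fintype.card F = r ^ 2) {q n : ℕ} (hq : q.Prime) (hq2 : q ≠ 2) (hn : 3 ≤ n)
    (hqr : q ∣ r - 1) : ∃ x g : SU n F r, orderOf x = q ∧ g * x * g⁻¹ = x⁻¹ := by
  classical
  have hr := two_le hF
  have hord : q ∣ Nat.card Fˣ := by
    rw [card_units_eq hF]
    exact hqr.mul_left _
  have : Fact q.Prime := ⟨hq⟩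
  obtain ⟨ζ, hζ⟩ := exists_prime_orderOf_dvd_card' q hord
  have hz : (ζ : F) ^ q = 1 := by
    have := pow_orderOf_eq_one ζ
    rw [hζ] at this
    rw [← Units.val_pow_eq_pow_val, this, Units.val_one]
  have hz1 : (ζ : F) ≠ 1 := by
    intro h1
    have h2 : ζ = 1 := Units.ext h1
    rw [h2, orderOf_one] at hζ
    exact hq.one_lt.ne hζ
  obtain ⟨z, hzd⟩ : ∃ z : F, z = ζ := ⟨_, rfl⟩
  rw [← hzd] at hz hz1
  have hz0 : z ≠ 0 := by
    rintro rfl
    rw [zero_pow hq.ne_zero] at hz
    exact zero_ne_one hz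
  have hzr : z ^ r = z := by
    obtain ⟨k, hk⟩ := hqr
    have h1 : r = q * k + 1 := by omega
    rw [h1, pow_succ, pow_mul, hz, one_pow, one_mul]
  have hzz : z * (z⁻¹) ^ r = 1 := by rw [inv_pow, hzr, mul_inv_cancel₀ hz0]
  -- the swap
  let s : Module.End F (F × F) := LinearMap.prod (LinearMap.snd F F F) (LinearMap.fst F F F)
  have hs : ∀ u, s u = (u.2, u.1) := fun _ => rfl
  have hss : s * s = 1 := by
    apply LinearMap.ext
    intro u
    rfl
  obtain ⟨ε, hε⟩ : ∃ ε, ε = LinearMap.det s := ⟨_, rfl⟩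
  have hεε : ε * ε = 1 := by rw [hε, ← map_mul, hss, map_one]
  have hεr : ε * ε ^ r = 1 := by
    rcases mul_self_eq_one_iff.1 hεε with h | h
    · rw [h, one_pow, one_mul]
    · rw [h, neg_pow_q hF, one_pow]
      ring
  let i₀ : Fin (n - 2) := ⟨0, by omega⟩
  let dd : Fin (n - 2) → F := fun i => if i = i₀ then ε else 1
  have hdd : ∀ i, dd i * dd i ^ r = 1 := by
    intro i
    change (if i = i₀ then ε else 1) * (if i = i₀ then ε else 1) ^ r = 1
    split_ifs
    · exact hεr
    · rw [one_pow, one_mul]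
  let D : Module.End F (Fin (n - 2) → F) := Matrix.toLin' (Matrix.diagonal dd)
  have hD : ∀ c i, D c i = dd i * c i := by
    intro c i
    change (Matrix.toLin' (Matrix.diagonal dd)) c i = _
    rw [Matrix.toLin'_apply, Matrix.mulVec_diagonal]
  have hdetD : LinearMap.det D = ε := by
    change LinearMap.det (Matrix.toLin' (Matrix.diagonal dd)) = ε
    rw [LinearMap.det_toLin', Matrix.det_diagonal]
    change ∏ i, (if i = i₀ then ε else 1) = ε
    rw [Finset.prod_ite_eq' Finset.univ i₀ (fun _ => ε), if_pos (Finset.mem_univ _)]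
  let G : Module.End F ((F × F) × (Fin (n - 2) → F)) := LinearMap.prodMap s D
  have hG : ∀ u, G u = ((u.1.2, u.1.1), D u.2) := fun _ => rfl
  refine real_of_model hF hq hq2 (W := (F × F) × (Fin (n - 2) → F)) ?_ (hermF_bb (K := F) hF) (XX (K := F) z z⁻¹) G
    (bb_XX (K := F) hzz) ?_ ?_ ?_ ?_ ?_
  · rw [Module.finrank_prod, Module.finrank_prod, finrank_self, finrank_fin_fun]
    omega
  · intro u v
    unfold bb
    rw [hG, hG]
    change Algebra.trace F F (u.1.2 * v.1.1 ^ r) + (Algebra.trace F F (v.1.2 * u.1.1 ^ r)) ^ r +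
      hermForm (n - 2) F r (D u.2) (D v.2) = _
    have h1 : hermForm (n - 2) F r (D u.2) (D v.2) = hermForm (n - 2) F r u.2 v.2 := by
      rw [herm_def, herm_def]
      refine Finset.sum_congr rfl fun i _ => ?_
      rw [hD, hD, mul_pow]
      linear_combination (u.2 i * v.2 i ^ r) * hdd i
    rw [h1, Algebra.trace_self_apply, Algebra.trace_self_apply, Algebra.trace_self_apply, Algebra.trace_self_apply, mul_pow,
      mul_pow, pow_q_pow_q hF, pow_q_pow_q hF]
    ring
  · rw [XX_pow, hz, inv_pow, hz, inv_one]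
    apply LinearMap.ext
    intro u
    rw [XX_apply, one_mul, one_mul]
    rfl
  · intro h1
    have h2 := LinearMap.congr_fun h1 ((1, 0), 0)
    rw [XX_apply, Module.End.one_apply] at h2
    have h3 : z * 1 = 1 := congrArg (fun u => u.1.1) h2
    rw [mul_one] at h3
    exact hz1 h3
  · apply LinearMap.ext
    intro u
    rw [Module.End.mul_apply, Module.End.mul_apply, XX_apply, hG, XX_apply, hG]
    refine Prod.ext (Prod.ext ?_ ?_) rfl
    · change z * (z⁻¹ * u.1.2) = u.1.2
      rw [mul_inv_cancel_left₀ hz0]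
    · change z⁻¹ * (z * u.1.1) = u.1.1
      rw [inv_mul_cancel_left₀ hz0]
  · change LinearMap.det (LinearMap.prodMap s D) = 1
    rw [LinearMap.det_prodMap, hdetD, ← hε, hεε]

end model

/-- **real elements of order `q` in `PSU_n(r)`** -/
theorem real_psu {F : Type} [Field F] [Fintype F] {r n q : ℕ} (hF : Fintype.card F = r ^ 2) (hq : q.Prime) (hq2 : q ≠ 2)
    (h : (∃ d, 0 < d ∧ Even d ∧ 2 * d ≤ n ∧ q ∣ r ^ d + 1) ∨ (3 ≤ n ∧ q ∣ r - 1)) :
    ∃ y : PSU n F r, orderOf y = q ∧ IsConj y y⁻¹ := by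
  have h1 : ∃ x g : SU n F r, orderOf x = q ∧ g * x * g⁻¹ = x⁻¹ := by
    rcases h with ⟨d, hd0, hd, hdn, hqr⟩ | ⟨hn, hqr⟩
    · exact real_even hF hq hq2 hd0 hd hdn hqr
    · exact real_one hF hq hq2 hn hqr
  obtain ⟨x, g, hx, hg⟩ := h1
  refine ⟨QuotientGroup.mk' _ x, ?_, ?_⟩
  · have : Fact q.Prime := ⟨hq⟩
    refine orderOf_eq_prime ?_ ?_
    · rw [← map_pow, ← hx, pow_orderOf_eq_one, map_one]
    · intro h2
      have h3 : x ∈ Subgroup.center (SU n F r) := (QuotientGroup.eq_one_iff x).1 h2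
      have h4 : g * x * g⁻¹ = x := by
        rw [Subgroup.mem_center_iff.1 h3 g, mul_inv_cancel_right]
      rw [h4] at hg
      have h5 : x ^ 2 = 1 := by
        rw [pow_two]
        nth_rewrite 1 [hg]
        exact inv_mul_cancel x
      have h6 := orderOf_dvd_of_pow_eq_one h5
      rw [hx] at h6
      exact hq2 ((Nat.prime_dvd_prime_iff_eq hq Nat.prime_two).1 h6)
  · rw [isConj_iff]
    exact ⟨QuotientGroup.mk' _ g, by rw [← map_mul, ← map_inv, ← map_mul, hg, map_inv]⟩

end Cfsg.Agent.H409.CC
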