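import Cfsg.Agent.H439.CC.Fin
import Cfsg.Agent.H749.PF.Inst
import Cfsg.Agent.H493.CC.AmbB
import Cfsg.Agent.H493.CC.Gen
import Cfsg.Agent.H215.WB.WFin
import Cfsg.Agent.H116.HeckeU.Cmp
import Cfsg.Agent.H850.SQ.ETwo

/-!
# S4884: `RowReal` for every model of a Witt frame (psp, psu, oodd, ominus) from `QElt` (helper409)
-/

set_option autoImplicit false

namespace Cfsg.Agent.H409.CC

open Cfsg Cfsg.Agent.H706.PB Cfsg.Agent.Characters.Core Cfsg.Agent.H439.CC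
open CoxeterSystem Cfsg.Agent.ChevalleyStructure.CoxeterGeom Cfsg.Agent.Tits.Roots Cfsg.Agent.Tits.Core
  Cfsg.Agent.Nodes.Reps Cfsg.Agent.Nodes.BNOf Cfsg.Agent.Nodes.StabComb Cfsg.Agent.Nodes.LeviDec
  Cfsg.Agent.Nodes.RGDLib
open Cfsg.Agent.Nodes Cfsg.Agent.Nodes.TypeC Cfsg.Agent.Nodes.WittAll
open Cfsg.Agent.TitsThree Cfsg.Agent.TitsThree.Siegel Cfsg.Agent.TitsThree.WittFrame Cfsg.Agent.TitsThree.WittWeyl
  Cfsg.Agent.TitsThree.FrameCN Cfsg.Agent.TitsThree.WBridge Cfsg.Agent.TitsThree.SiegelGen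

/-- **the row of a model of a Witt frame**, from `QElt` -/
theorem row_model {F V : Type} [Field F] [Finite F] [AddCommGroup V] [Module F V] [Finite V]
    {H : HForm F V} {n : ℕ} {Fr : Frame H (Fin n)} {K : Type} [Group K] [Finite K] (M : Model Fr K) {p : ℕ}
    [Fact p.Prime] [CharP F p] (hp2 : p ≠ 2) (hA : AmbT Fr p M.I) {p0 : Fr.Adm} (hp0 : p0.c ≠ 0) (hn : 0 < n)
    (Sg : H749.PF.Sing Fr) (hS : ∀ v, H.h v v = 0 → Sg.S v) {q : ℕ} [Fact q.Prime] (hq2 : q ≠ 2)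
    (hQ : QElt (H749.PF.TI H) M.I.subtype q n) : RowReal q K := by
  have : Finite (CoxeterMatrix.B n).Group := TypeC.finite_W (CoxeterMatrix.B n).toCoxeterSystem
  have : Module.Finite F V := Module.Finite.of_finite
  have : Finite (V ≃ₗ[F] V) := Finite.of_injective (fun g : V ≃ₗ[F] V => (g : V → V)) DFunLike.coe_injective
  have R := rgdC_model M hA hp0 (CoxeterMatrix.B n).toCoxeterSystem
  have hgen := H493.CC.hgen_C M hA hp0 hn (CoxeterMatrix.B n).toCoxeterSystem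
  exact rowReal_of_pieces' H850.SQ.eTwo hp2 R
    hgen (H493.CC.real_B (CoxeterMatrix.B n).toCoxeterSystem) (H116.HeckeU.cmp_of_rgd R hgen) n hn JB
    (H215.WB.wside_B _) hq2
    (by rw [Fintype.card_unit]; exact (Fact.out : q.Prime).one_lt.ne' ∘ Nat.dvd_one.1)
    (H749.PF.flags_model M hA hp0 _ hn Sg hS) hQ

end Cfsg.Agent.H409.CC
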