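import Cfsg.Agent.H409.CC.RowModel
import Cfsg.Agent.H409.CC.BadPsu
import Cfsg.Agent.H412.CC.GPsu

/-!
# S4884, row `psu`, end to end (helper409)
-/

set_option autoImplicit false

namespace Cfsg.Agent.H409.CC

open Cfsg Cfsg.Agent.H706.PB Cfsg.Agent.Characters.Core Cfsg.Agent.H439.CC
open Cfsg.Agent.Nodes Cfsg.Agent.Nodes.WittAll Cfsg.Agent.Nodes.WittU
open Cfsg.Agent.TitsThree Cfsg.Agent.TitsThree.Siegel Cfsg.Agent.TitsThree.WittFrame Cfsg.Agent.TitsThree.WittWeyl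
  Cfsg.Agent.TitsThree.FrameCN Cfsg.Agent.TitsThree.WBridge
  Cfsg.Agent.TitsThree.KSideU Cfsg.Agent.TitsThree.KSideUDesc Cfsg.Agent.TitsThree.SiegelGen

/-- **row psu**, for a Witt frame, from `QElt` -/
theorem row_psu_frame {F : Type} [Field F] [Fintype F] {n r m : ℕ} (hF : Fintype.card F = r ^ 2) (hn : 3 ≤ n)
    (hm : 0 < m) (W : WFrame (PU hF n) m) (h2 : (2 : F) ≠ 0) {q : ℕ} [Fact q.Prime] (hq2 : q ≠ 2)
    (hQ : QElt (H749.PF.TI (HU hF n)) (KInstU.model hF hn W).I.subtype q m) : RowReal q (PSU n F r) := by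
  obtain ⟨p, hp'⟩ := CharP.exists F
  have : Fact p.Prime := ⟨CharP.char_is_prime F p⟩
  have hp2 : p ≠ 2 := by
    rintro rfl
    exact h2 (CharP.cast_eq_zero F 2)
  obtain ⟨p0, hp0, -⟩ := exists_adm hF W
  exact row_model (KInstU.model hF hn W) hp2 (AmbT.of_amb (amb_U hF W) p) hp0 hm (H749.PF.ofW W)
    (H749.PF.ofW_S_of W h2) hq2 hQ

/-- the statement of `qelt_psu`: `QElt` except in the bad case -/
def QEltU (q : ℕ) : Prop :=
  ∀ (F : Type) [Field F] [Fintype F] (n r m : ℕ) (hF : Fintype.card F = r ^ 2) (hn : 3 ≤ n)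
    (W : WFrame (PU hF n) m), 0 < m → (n = 2 * m ∨ n = 2 * m + 1) → (2 : F) ≠ 0 → (q : F) ≠ 0 →
    q ∣ Nat.card (PSU n F r) →
    (¬ ∃ c, 1 ≤ c ∧ orderOf (-(r : ZMod q)) = 2 ^ c ∧ 2 ^ c ≤ n ∧ n < 2 * 2 ^ c) →
    QElt (H749.PF.TI (HU hF n)) (KInstU.model hF hn W).I.subtype q m

/-- **row psu**, from `QEltU` -/
theorem row_psu_of {q : ℕ} [Fact q.Prime] (hq2 : q ≠ 2) (hQ : QEltU q) :
    RowForR q (fun X _ => ∃ (F : Type) (_ : Field F) (_ : Fintype F) (n r : ℕ), (q : F) ≠ 0 ∧ (2 : F) ≠ 0 ∧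
      Fintype.card F = r ^ 2 ∧ 3 ≤ n ∧ Nonempty (X ≃* PSU n F r)) := by
  intro X _ _ _ _ hd hX
  obtain ⟨F, _, _, n, r, hq, h2, hF, hn, ⟨e⟩⟩ := hX
  refine RowReal.congr e ?_
  have hd' : q ∣ Nat.card (PSU n F r) := by rwa [← Nat.card_congr e.toEquiv]
  by_cases hb : ∃ c, 1 ≤ c ∧ orderOf (-(r : ZMod q)) = 2 ^ c ∧ 2 ^ c ≤ n ∧ n < 2 * 2 ^ c
  · obtain ⟨c, h1, h3, h4, h5⟩ := hb
    refine bad_psu hF hn ?_ hq2 h1 h3 h4 h5
    intro hqr
    apply hq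
    obtain ⟨p, hp'⟩ := CharP.exists F
    have hpp : p.Prime := CharP.char_is_prime F p
    have : Fact p.Prime := ⟨hpp⟩
    have h6 : q ∣ Fintype.card F := by
      rw [hF]
      exact hqr.trans (dvd_pow_self r two_ne_zero)
    obtain ⟨k, -, hk⟩ := FiniteField.card F p
    rw [hk] at h6
    have h7 : q = p := (Nat.prime_dvd_prime_iff_eq Fact.out hpp).1 ((Fact.out : q.Prime).dvd_of_dvd_pow h6)
    rw [h7]
    exact CharP.cast_eq_zero F p
  · obtain ⟨m, hm⟩ : ∃ m, n = 2 * m ∨ n = 2 * m + 1 := ⟨n / 2, by omega⟩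
    have key : ∀ W : WFrame (PU hF n) m, RowReal q (PSU n F r) := fun W =>
      row_psu_frame hF hn (by omega) W h2 hq2 (hQ F n r m hF hn W (by omega) hm h2 hq hd' hb)
    rcases hm with hm' | hm'
    · obtain ⟨W, -⟩ := exists_wframe_even (N := n) hF hm'
      exact key W
    · obtain ⟨W, -⟩ := exists_wframe_odd (N := n) hF hm'
      exact key W

/-- `QEltU`, from helper412's `qelt_psu` -/
theorem qEltU {q : ℕ} [Fact q.Prime] (hq2 : q ≠ 2) : QEltU q := by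
  intro F _ _ n r m hF hn W hm hnm h2 hq hd hb
  have h3 : n / 2 = m := by omega
  have h4 := H412.CC.qelt_psu hF hn hq2 hq (hd.trans (Subgroup.card_quotient_dvd_card _)) hb
    (Adm := H749.PF.TI (HU hF n)) (fun U hU => hU)
  rw [h3] at h4
  exact h4

/-- **the row psu of S4884** -/
theorem row_psu {q : ℕ} [Fact q.Prime] (hq2 : q ≠ 2) :
    RowForR q (fun X _ => ∃ (F : Type) (_ : Field F) (_ : Fintype F) (n r : ℕ), (q : F) ≠ 0 ∧ (2 : F) ≠ 0 ∧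
      Fintype.card F = r ^ 2 ∧ 3 ≤ n ∧ Nonempty (X ≃* PSU n F r)) :=
  row_psu_of hq2 (qEltU hq2)

end Cfsg.Agent.H409.CC
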